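import Groth.Prelude.Def_EGA4c
import Mathlib.AlgebraicGeometry.Modules.Tilde
import Mathlib.RingTheory.Spectrum.Prime.Noetherian
import Mathlib.RingTheory.Support

/-!
# Sections of `M~` off a closed subset of `Spec A`

Restriction from the global sections of `M~` to `Spec A ∖ V(J)`, described by families of fractions.
-/

set_option autoImplicit false
universe u

open AlgebraicGeometry CategoryTheory Opposite TopologicalSpace

namespace GrothLib.TildePure

variable (A : Type u) [CommRing A] (M : Type u) [AddCommGroup M] [Module A M] (J : Ideal A)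

/-- A section of `M~` over the complement of `V(J)`. -/
abbrev Sec : Type u := Γ(EGA4.tildeOf A M, EGA4.openCompl A J)

variable {A M J}

/-- The value of a section at a point. -/
noncomputable def value (s : Sec A M J) (x : EGA4.openCompl A J) :
    LocalizedModule x.1.asIdeal.primeCompl M := s.1 x

theorem sec_ext {s t : Sec A M J} (h : ∀ x, value s x = value t x) : s = t :=
  Subtype.ext (funext h)

theorem mem_openCompl_iff {x : PrimeSpectrum A} :
    x ∈ EGA4.openCompl A J ↔ ¬ J ≤ x.asIdeal := Iff.rfl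

/-- `m` is zero at every point outside `V(J)`. -/
def Vanishes (J : Ideal A) (m : M) : Prop :=
  ∀ x : PrimeSpectrum A, ¬ J ≤ x.asIdeal → ∃ c : A, c ∉ x.asIdeal ∧ c • m = 0

/-- A global section as a restricted section. -/
noncomputable def ofGlobal (J : Ideal A) (m : M) : Sec A M J :=
  StructureSheaf.toOpenₗ A M (EGA4.openCompl A J) m

theorem value_ofGlobal (m : M) (x : EGA4.openCompl A J) :
    value (ofGlobal J m) x = LocalizedModule.mk m 1 := rfl

theorem ofGlobal_eq_ofGlobal_iff (m m' : M) :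
    ofGlobal J m = ofGlobal J m' ↔ Vanishes J (m - m') := by
  constructor
  · intro h x hx
    have hv : value (ofGlobal J m) ⟨x, hx⟩ = value (ofGlobal J m') ⟨x, hx⟩ := by rw [h]
    rw [value_ofGlobal, value_ofGlobal, LocalizedModule.mk_eq] at hv
    obtain ⟨u, hu⟩ := hv
    refine ⟨u, u.2, ?_⟩
    rw [one_smul, one_smul] at hu
    rw [smul_sub, sub_eq_zero]
    exact hu
  · intro h
    refine sec_ext fun x => ?_
    obtain ⟨c, hc, hcm⟩ := h x.1 x.2
    rw [value_ofGlobal, value_ofGlobal, LocalizedModule.mk_eq]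
    refine ⟨⟨c, hc⟩, ?_⟩
    rw [one_smul, one_smul]
    exact sub_eq_zero.1 ((smul_sub c m m').symm.trans hcm)

/-- The restriction map in terms of `ofGlobal`. -/
theorem restrCompl_eq (m : M) :
    EGA4.restrCompl A J M (StructureSheaf.toOpenₗ A M ⊤ m) = ofGlobal J m := rfl

theorem injective_iff :
    Function.Injective (EGA4.restrCompl A J M) ↔ ∀ m : M, Vanishes J m → m = 0 := by
  have hbij := StructureSheaf.toOpenₗ_top_bijective (R := A) (M := M)
  constructor
  · intro h m hm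
    refine hbij.1 ?_
    refine h ?_
    exact ((restrCompl_eq (J := J) m).trans
      ((ofGlobal_eq_ofGlobal_iff m 0).2 (by rwa [sub_zero]))).trans (restrCompl_eq (J := J) 0).symm
  · intro h s t hst
    obtain ⟨m, rfl⟩ := hbij.2 s
    obtain ⟨m', rfl⟩ := hbij.2 t
    rw [sub_eq_zero.1 (h (m - m') ((ofGlobal_eq_ofGlobal_iff m m').1
      ((restrCompl_eq m).symm.trans (hst.trans (restrCompl_eq m')))))]

theorem surjective_iff :
    Function.Surjective (EGA4.restrCompl A J M) ↔ ∀ s : Sec A M J, ∃ m, ofGlobal J m = s := by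
  have hbij := StructureSheaf.toOpenₗ_top_bijective (R := A) (M := M)
  constructor
  · intro h s
    obtain ⟨g, hg⟩ := h s
    obtain ⟨m, rfl⟩ := hbij.2 g
    exact ⟨m, (restrCompl_eq m).symm.trans hg⟩
  · intro h s
    obtain ⟨m, hm⟩ := h s
    exact ⟨StructureSheaf.toOpenₗ A M ⊤ m, (restrCompl_eq m).trans hm⟩

/-- Locally a section is a fraction. -/
theorem exists_fraction (s : Sec A M J) (x : EGA4.openCompl A J) :
    ∃ (g : A) (n : M) (b : A), g ∉ x.1.asIdeal ∧
      (∀ y : PrimeSpectrum A, g ∉ y.asIdeal → ¬ J ≤ y.asIdeal) ∧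
      ∀ y : EGA4.openCompl A J, g ∉ y.1.asIdeal →
        ∃ hb : b ∉ y.1.asIdeal, value s y = LocalizedModule.mk n ⟨b, hb⟩ := by
  obtain ⟨V, hxV, i, n, b, h⟩ := s.2 x
  obtain ⟨_, ⟨_, ⟨g, rfl⟩, rfl⟩, hxg, hgV⟩ :=
    PrimeSpectrum.isBasis_basic_opens.exists_subset_of_mem_open hxV V.2
  refine ⟨g, n, b, hxg, fun y hy => i.le (hgV hy), fun y hy => ?_⟩
  obtain ⟨hb, e⟩ := h ⟨y.1, hgV hy⟩
  exact ⟨hb, e⟩

/-- The family of local fractions defines a section. -/
noncomputable def mkSec (v : ∀ x : EGA4.openCompl A J, LocalizedModule x.1.asIdeal.primeCompl M)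
    (h : ∀ x : EGA4.openCompl A J, ∃ (a : A) (n : M), a ∉ x.1.asIdeal ∧
      ∀ y : EGA4.openCompl A J, ∀ hy : a ∉ y.1.asIdeal, v y = LocalizedModule.mk n ⟨a, hy⟩) :
    Sec A M J :=
  ⟨v, fun x => by
    obtain ⟨a, n, hax, hv⟩ := h x
    refine ⟨PrimeSpectrum.basicOpen a ⊓ EGA4.openCompl A J, ⟨hax, x.2⟩, homOfLE inf_le_right, n, a,
      fun y => ⟨y.2.1, hv ⟨y.1, y.2.2⟩ y.2.1⟩⟩⟩

theorem value_mkSec (v : ∀ x : EGA4.openCompl A J, LocalizedModule x.1.asIdeal.primeCompl M)
    (h : ∀ x : EGA4.openCompl A J, ∃ (a : A) (n : M), a ∉ x.1.asIdeal ∧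
      ∀ y : EGA4.openCompl A J, ∀ hy : a ∉ y.1.asIdeal, v y = LocalizedModule.mk n ⟨a, hy⟩)
    (x : EGA4.openCompl A J) : value (mkSec v h) x = v x := rfl

/-- Off `V(J)` every section becomes global after multiplication by some element. -/
theorem exists_smul_eq_ofGlobal [IsNoetherianRing A] (s : Sec A M J) (x : EGA4.openCompl A J) :
    ∃ (a : A) (m : M), a ∉ x.1.asIdeal ∧
      ∀ y : EGA4.openCompl A J, a • value s y = LocalizedModule.mk m 1 := by
  obtain ⟨f, n, b, hf, -, hs⟩ := exists_fraction s x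
  obtain ⟨hbx, -⟩ := hs x hf
  -- the difference vanishes on `D(f)`
  have hloc : ∀ y : EGA4.openCompl A J, ∃ g : A, g ∉ y.1.asIdeal ∧ ∃ k : ℕ,
      ∀ z : EGA4.openCompl A J, g ∉ z.1.asIdeal →
        f ^ k • (b • value s z - LocalizedModule.mk n 1) = 0 := by
    intro y
    obtain ⟨g, n', c, hg, hgU, hy⟩ := exists_fraction s y
    have hrad : g * c * f ∈ (Module.annihilator A ↥(Submodule.span A {b • n' - c • n})).radical := by
      rw [Ideal.radical_eq_sInf, Submodule.mem_sInf]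
      rintro q ⟨hq, hqp⟩
      by_contra hgc
      haveI := hqp
      have h1 : g ∉ q := fun h => hgc (Ideal.mul_mem_right _ _ (Ideal.mul_mem_right _ _ h))
      have h2 : c ∉ q := fun h => hgc (Ideal.mul_mem_right _ _ (Ideal.mul_mem_left _ _ h))
      have h3 : f ∉ q := fun h => hgc (Ideal.mul_mem_left _ _ h)
      have hJq : ¬ J ≤ q := hgU ⟨q, hqp⟩ h1
      obtain ⟨hc', e1⟩ := hy ⟨⟨q, hqp⟩, hJq⟩ h1
      obtain ⟨hb', e2⟩ := hs ⟨⟨q, hqp⟩, hJq⟩ h3
      rw [e1, LocalizedModule.mk_eq] at e2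
      obtain ⟨w, hw⟩ := e2
      simp only [Submonoid.smul_def] at hw
      refine w.2 (hq ?_)
      rw [Module.mem_annihilator]
      rintro ⟨z, hz⟩
      obtain ⟨r, rfl⟩ := Submodule.mem_span_singleton.1 hz
      refine Subtype.ext ?_
      show (w : A) • r • (b • n' - c • n) = 0
      rw [smul_comm, smul_sub, hw, sub_self, smul_zero]
    obtain ⟨k, hk⟩ := hrad
    obtain ⟨hcy, -⟩ := hy y hg
    refine ⟨g * c, fun h => (y.1.isPrime.mem_or_mem h).elim hg hcy, k, fun z hz => ?_⟩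
    obtain ⟨hcz, e⟩ := hy z fun h => hz (Ideal.mul_mem_right _ _ h)
    rw [e, LocalizedModule.smul'_mk]
    have h0 : (g * c * f) ^ k • (b • n' - c • n) = 0 :=
      congrArg Subtype.val (Module.mem_annihilator.1 hk ⟨_, Submodule.mem_span_singleton_self _⟩)
    have h1 : LocalizedModule.mk (b • n') (⟨c, hcz⟩ : z.1.asIdeal.primeCompl) - LocalizedModule.mk n 1 =
        LocalizedModule.mk (b • n' - c • n) ⟨c, hcz⟩ := by
      rw [sub_eq_iff_eq_add, LocalizedModule.mk_add_mk, LocalizedModule.mk_eq]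
      refine ⟨1, ?_⟩
      simp only [Submonoid.smul_def, Submonoid.coe_mul, Submonoid.coe_one, mul_one, one_smul]
      rw [sub_add_cancel]
    rw [h1, LocalizedModule.smul'_mk, ← LocalizedModule.zero_mk (1 : z.1.asIdeal.primeCompl),
      LocalizedModule.mk_eq]
    refine ⟨⟨(g * c) ^ k, fun h => hz (z.1.isPrime.mem_of_pow_mem k h)⟩, ?_⟩
    simp only [Submonoid.smul_def, Submonoid.coe_one, one_smul, smul_zero]
    rw [← mul_smul, ← mul_pow]
    exact h0
  choose g hg k hk using hloc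
  let U' : Set (PrimeSpectrum A) := {z | z ∈ EGA4.openCompl A J}
  have hcover : U' ⊆ ⋃ y : EGA4.openCompl A J, (PrimeSpectrum.basicOpen (g y) : Set (PrimeSpectrum A)) :=
    fun z hz => Set.mem_iUnion.2 ⟨⟨z, hz⟩, hg ⟨z, hz⟩⟩
  obtain ⟨T, hT⟩ := (NoetherianSpace.isCompact U').elim_finite_subcover _
      (fun y => (PrimeSpectrum.basicOpen (g y)).2) hcover
  refine ⟨f ^ T.sup k * b, f ^ T.sup k • n,
    fun h => (x.1.isPrime.mem_or_mem h).elim (fun h => hf (x.1.isPrime.mem_of_pow_mem _ h)) hbx,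
    fun z => ?_⟩
  obtain ⟨y, hy⟩ := Set.mem_iUnion.1 (hT z.2)
  obtain ⟨hyT, hyz⟩ := Set.mem_iUnion.1 hy
  have := hk y z hyz
  obtain ⟨e, he⟩ := Nat.exists_eq_add_of_le (Finset.le_sup (f := k) hyT)
  rw [← LocalizedModule.smul'_mk, mul_smul, ← sub_eq_zero, ← smul_sub, he, pow_add, mul_comm,
    mul_smul, this, smul_zero]

end GrothLib.TildePure
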